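import Groth.Agent.JacDimLib.SuppStalk
import Groth.Agent.EquidimLib.DimEquidim
import Groth.Agent.S9501
import Mathlib

/-! # Lengths and associated primes of stalks, of their localisations and of their restrictions to fibres -/

set_option autoImplicit false
universe u

open CategoryTheory AlgebraicGeometry TopologicalSpace Topology TensorProduct IsLocalRing

namespace DvrLenLib

theorem length_eq_of_isLocalizedModule {B L₁ L₂ M N₁ N₂ : Type u} [CommRing B] [CommRing L₁] [CommRing L₂]
    [Algebra B L₁] [Algebra B L₂] (S : Submonoid B) [IsLocalization S L₁] [IsLocalization S L₂]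
    [AddCommGroup M] [Module B M] [AddCommGroup N₁] [Module B N₁] [Module L₁ N₁] [IsScalarTower B L₁ N₁]
    [AddCommGroup N₂] [Module B N₂] [Module L₂ N₂] [IsScalarTower B L₂ N₂]
    (f₁ : M →ₗ[B] N₁) [IsLocalizedModule S f₁] (f₂ : M →ₗ[B] N₂) [IsLocalizedModule S f₂] :
    Module.length L₁ N₁ = Module.length L₂ N₂ := by
  let e : L₂ ≃ₐ[B] L₁ := IsLocalization.algEquiv S _ _
  letI : Algebra L₂ L₁ := e.toAlgHom.toRingHom.toAlgebra
  letI : Module L₂ N₁ := Module.compHom N₁ e.toAlgHom.toRingHom
  haveI : IsScalarTower L₂ L₁ N₁ := IsScalarTower.of_algebraMap_smul fun _ _ ↦ rfl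
  haveI : IsScalarTower B L₂ N₁ := IsScalarTower.of_algebraMap_smul fun b x ↦ by
    show e (algebraMap B L₂ b) • x = b • x
    rw [e.commutes, algebraMap_smul]
  rw [← Module.length_eq_of_surjective (S := L₂) (R := L₁) (M := N₁) e.surjective]
  exact (((IsLocalizedModule.iso S f₁).symm.trans (IsLocalizedModule.iso S f₂)).extendScalarsOfIsLocalization
    S L₂).length_eq

/-- Restriction along a surjection is reduction modulo its kernel. -/
noncomputable def tensorEquivQuot {O O' : Type u} [CommRing O] [CommRing O'] [Algebra O O']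
    (hs : Function.Surjective (algebraMap O O')) (M : Type u) [AddCommGroup M] [Module O M] :
    O' ⊗[O] M ≃ₗ[O] M ⧸ (RingHom.ker (algebraMap O O') • ⊤ : Submodule O M) :=
  (TensorProduct.congr (Ideal.quotientKerAlgEquivOfSurjective (f := Algebra.ofId O O') hs).symm.toLinearEquiv
    (LinearEquiv.refl O M)).trans (quotTensorEquivQuotSMul M _)

theorem length_tensor_of_surjective {O O' : Type u} [CommRing O] [CommRing O'] [Algebra O O']
    (hs : Function.Surjective (algebraMap O O')) (M : Type u) [AddCommGroup M] [Module O M] :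
    Module.length O' (O' ⊗[O] M) = Module.length O (M ⧸ (RingHom.ker (algebraMap O O') • ⊤ : Submodule O M)) := by
  rw [← Module.length_eq_of_surjective (S := O) (R := O') hs, (tensorEquivQuot hs M).length_eq]

theorem isAssociatedPrime_maximal_of_surjective {O O' : Type u} [CommRing O] [IsLocalRing O] [CommRing O']
    [IsLocalRing O'] [IsNoetherianRing O] [IsNoetherianRing O'] [Algebra O O']
    (hs : Function.Surjective (algebraMap O O')) (N : Type u) [AddCommGroup N] [Module O N] [Module O' N]
    [IsScalarTower O O' N] :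
    IsAssociatedPrime (maximalIdeal O') N ↔ IsAssociatedPrime (maximalIdeal O) N := by
  haveI : IsLocalHom (algebraMap O O') := IsLocalHom.of_surjective _ hs
  have hmax : ∀ r : O, algebraMap O O' r ∈ maximalIdeal O' ↔ r ∈ maximalIdeal O := fun r ↦ by
    rw [mem_maximalIdeal, mem_maximalIdeal, mem_nonunits_iff, mem_nonunits_iff, isUnit_map_iff]
  rw [isAssociatedPrime_iff, isAssociatedPrime_iff]
  refine ⟨fun ⟨_, x, hx⟩ ↦ ⟨inferInstance, x, ?_⟩, fun ⟨_, x, hx⟩ ↦ ⟨inferInstance, x, ?_⟩⟩
  · ext r
    rw [← hmax, hx, Submodule.mem_colon_singleton, Submodule.mem_colon_singleton, Submodule.mem_bot,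
      Submodule.mem_bot, algebraMap_smul]
  · ext r'
    obtain ⟨r, rfl⟩ := hs r'
    rw [hmax, hx, Submodule.mem_colon_singleton, Submodule.mem_colon_singleton, Submodule.mem_bot,
      Submodule.mem_bot, algebraMap_smul]

variable {X : Scheme.{u}}

theorem mem_support_stalk_iff (F : X.Modules) [Coh.IsQCoh F] (hF : CohB1.IsFT F) (x : X)
    (p : PrimeSpectrum (X.presheaf.stalk x)) :
    p ∈ Module.support (X.presheaf.stalk x) (F.presheaf.stalk x) ↔ EquidimLib.stalkPt x p ∈ CohB1.support F := by
  obtain ⟨_, ⟨V, hV, rfl⟩, hxV, -⟩ :=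
    X.isBasis_affineOpens.exists_subset_of_mem_open (Set.mem_univ x) isOpen_univ
  haveI := QCohLib.finite_of_isFT hF hV
  letI : Algebra Γ(X, V) (X.presheaf.stalk x) := (X.presheaf.germ V x hxV).hom.toAlgebra
  haveI : IsLocalization.AtPrime (X.presheaf.stalk x) (hV.primeIdealOf ⟨x, hxV⟩).asIdeal :=
    hV.isLocalization_stalk ⟨x, hxV⟩
  letI := Module.compHom (F.presheaf.stalk x) (X.presheaf.germ V x hxV).hom
  haveI : IsScalarTower Γ(X, V) (X.presheaf.stalk x) (F.presheaf.stalk x) :=
    IsScalarTower.of_algebraMap_smul fun _ _ => rfl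
  haveI := FlatLib.isLocalizedModule_germLin F hV hxV
  have hb : IsBaseChange (X.presheaf.stalk x) (FlatLib.germLin F hxV) :=
    IsLocalizedModule.isBaseChange (hV.primeIdealOf ⟨x, hxV⟩).asIdeal.primeCompl _ _
  have hmemV : ∀ Q, hV.fromSpec Q ∈ V := fun Q => by
    have h1 : hV.fromSpec Q ∈ Set.range hV.fromSpec := ⟨Q, rfl⟩
    rwa [hV.range_fromSpec] at h1
  rw [← hb.equiv.support_eq, DepthLib.mem_support_baseChange, show EquidimLib.stalkPt x p =
    hV.fromSpec (PrimeSpectrum.comap (algebraMap Γ(X, V) (X.presheaf.stalk x)) p) from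
      congrArg (fun φ => φ.base p) (hV.fromSpecStalk_eq_fromSpecStalk hxV).symm]
  set Q := PrimeSpectrum.comap (algebraMap Γ(X, V) (X.presheaf.stalk x)) p
  rw [← QCohLib.mem_support_iff hV (hmemV Q), show hV.primeIdealOf ⟨hV.fromSpec Q, hmemV Q⟩ = Q from
    hV.fromSpec.isOpenEmbedding.injective (hV.fromSpec_primeIdealOf ⟨_, hmemV Q⟩)]

/-- A maximal point of the support is associated. -/
theorem mem_ass_of_max [IsLocallyNoetherian X] (F : X.Modules) [Coh.IsQCoh F] (hF : CohB1.IsFT F) {x : X}
    (hx : x ∈ CohB1.support F) (hmax : ∀ w ∈ CohB1.support F, w ⤳ x → w = x) : x ∈ AssSch.Ass F := by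
  haveI : Nontrivial (F.presheaf.stalk x) := not_subsingleton_iff_nontrivial.1 hx
  obtain ⟨z, hz⟩ := exists_ne (0 : F.presheaf.stalk x)
  obtain ⟨P, hP, -⟩ := exists_le_isAssociatedPrime_of_isNoetherianRing (X.presheaf.stalk x) z hz
  have hPp := (isAssociatedPrime_iff.1 hP).1
  have hsupp : (⟨P, hPp⟩ : PrimeSpectrum (X.presheaf.stalk x)) ∈ Module.support (X.presheaf.stalk x) (F.presheaf.stalk x) :=
    Module.mem_support_iff_exists_annihilator.2 (by
      obtain ⟨-, y, hy⟩ := isAssociatedPrime_iff.1 hP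
      exact ⟨y, by
        show (Submodule.span (X.presheaf.stalk x) {y}).annihilator ≤ P
        rw [hy]
        intro r hr
        rw [Submodule.mem_colon_singleton, Submodule.mem_bot]
        exact (Submodule.mem_annihilator_span_singleton y r).1 hr⟩)
  have e := hmax _ ((mem_support_stalk_iff F hF x _).1 hsupp) (EquidimLib.stalkPt_specializes x _)
  have e' : (⟨P, hPp⟩ : PrimeSpectrum (X.presheaf.stalk x)) = closedPoint _ :=
    EquidimLib.stalkPt_injective x (e.trans Scheme.fromSpecStalk_closedPoint.symm)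
  show IsAssociatedPrime _ _
  rwa [show maximalIdeal (X.presheaf.stalk x) = P from (congrArg PrimeSpectrum.asIdeal e').symm]

theorem length_localizedModule_stalk (F : X.Modules) [Coh.IsQCoh F] (w : X)
    (P : PrimeSpectrum (X.presheaf.stalk w)) {x : X} (hP : EquidimLib.stalkPt w P = x) :
    Module.length (Localization.AtPrime P.asIdeal) (LocalizedModule P.asIdeal.primeCompl (F.presheaf.stalk w)) =
      Module.length (X.presheaf.stalk x) (F.presheaf.stalk x) := by
  obtain ⟨_, ⟨V, hV, rfl⟩, hwV, -⟩ :=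
    X.isBasis_affineOpens.exists_subset_of_mem_open (Set.mem_univ w) isOpen_univ
  letI : Algebra Γ(X, V) (X.presheaf.stalk w) := (X.presheaf.germ V w hwV).hom.toAlgebra
  haveI : IsLocalization.AtPrime (X.presheaf.stalk w) (hV.primeIdealOf ⟨w, hwV⟩).asIdeal :=
    hV.isLocalization_stalk ⟨w, hwV⟩
  letI := Module.compHom (F.presheaf.stalk w) (X.presheaf.germ V w hwV).hom
  haveI : IsScalarTower Γ(X, V) (X.presheaf.stalk w) (F.presheaf.stalk w) :=
    IsScalarTower.of_algebraMap_smul fun _ _ => rfl
  haveI := FlatLib.isLocalizedModule_germLin F hV hwV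
  have hx : x = hV.fromSpec (PrimeSpectrum.comap (algebraMap Γ(X, V) (X.presheaf.stalk w)) P) :=
    hP ▸ congrArg (fun φ => φ.base P) (hV.fromSpecStalk_eq_fromSpecStalk hwV).symm
  have hxV : x ∈ V := (hP ▸ EquidimLib.stalkPt_specializes w P : x ⤳ w).mem_open V.isOpen hwV
  have hq : (hV.primeIdealOf ⟨x, hxV⟩).asIdeal = P.asIdeal.comap (algebraMap Γ(X, V) (X.presheaf.stalk w)) :=
    congrArg PrimeSpectrum.asIdeal (hV.fromSpec.isOpenEmbedding.injective
      ((hV.fromSpec_primeIdealOf ⟨x, hxV⟩).trans hx))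
  letI : Algebra Γ(X, V) (X.presheaf.stalk x) := (X.presheaf.germ V x hxV).hom.toAlgebra
  haveI : IsLocalization.AtPrime (X.presheaf.stalk x) (P.asIdeal.comap (algebraMap Γ(X, V) (X.presheaf.stalk w))) := by
    have h : IsLocalization.AtPrime (X.presheaf.stalk x) (hV.primeIdealOf ⟨x, hxV⟩).asIdeal :=
      hV.isLocalization_stalk ⟨x, hxV⟩
    simp only [hq] at h
    exact h
  letI := Module.compHom (F.presheaf.stalk x) (X.presheaf.germ V x hxV).hom
  haveI : IsScalarTower Γ(X, V) (X.presheaf.stalk x) (F.presheaf.stalk x) :=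
    IsScalarTower.of_algebraMap_smul fun _ _ => rfl
  haveI hloc1 : IsLocalizedModule (P.asIdeal.comap (algebraMap Γ(X, V) (X.presheaf.stalk w))).primeCompl
      (FlatLib.germLin F hxV) := by
    have h := FlatLib.isLocalizedModule_germLin F hV hxV
    simp only [hq] at h
    exact h
  haveI hL : IsLocalization.AtPrime (Localization.AtPrime P.asIdeal)
      (P.asIdeal.comap (algebraMap Γ(X, V) (X.presheaf.stalk w))) :=
    IsLocalization.isLocalization_isLocalization_atPrime_isLocalization
      (hV.primeIdealOf ⟨w, hwV⟩).asIdeal.primeCompl _ P.asIdeal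
  have h1 : IsBaseChange (X.presheaf.stalk w) (FlatLib.germLin F hwV) :=
    IsLocalizedModule.isBaseChange (hV.primeIdealOf ⟨w, hwV⟩).asIdeal.primeCompl _ _
  have h2 : IsBaseChange (Localization.AtPrime P.asIdeal)
      (LocalizedModule.mkLinearMap P.asIdeal.primeCompl (F.presheaf.stalk w)) :=
    IsLocalizedModule.isBaseChange P.asIdeal.primeCompl _ _
  haveI := (isLocalizedModule_iff_isBaseChange
    (P.asIdeal.comap (algebraMap Γ(X, V) (X.presheaf.stalk w))).primeCompl _ _).2 (h1.comp h2)
  exact length_eq_of_isLocalizedModule (P.asIdeal.comap (algebraMap Γ(X, V) (X.presheaf.stalk w))).primeCompl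
    (((LocalizedModule.mkLinearMap P.asIdeal.primeCompl (F.presheaf.stalk w)).restrictScalars Γ(X, V)).comp
      (FlatLib.germLin F hwV)) (FlatLib.germLin F hxV)

variable {A : Type u} [CommRing A] (f : X ⟶ Spec (CommRingCat.of A))

/-- The structure map into a local ring. -/
noncomputable def baseToStalk (x : X) : A →+* X.presheaf.stalk x :=
  (f.stalkMap x).hom.comp (StructureSheaf.toStalk A (f.base x)).hom

theorem base_stalkPt (w : X) (Q : PrimeSpectrum (X.presheaf.stalk w)) :
    f.base (EquidimLib.stalkPt w Q) = PrimeSpectrum.comap (baseToStalk f w) Q := by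
  rw [← show EquidimLib.stalkPt (f.base w) (PrimeSpectrum.comap (f.stalkMap w).hom Q) = f.base (EquidimLib.stalkPt w Q) from
    congrArg (fun φ : Spec (X.presheaf.stalk w) ⟶ Spec (CommRingCat.of A) => φ.base Q) (Scheme.SpecMap_stalkMap_fromSpecStalk f)]
  show ((Spec (CommRingCat.of A)).fromSpecStalk (f.base w)).base _ = _
  rw [Spec.fromSpecStalk_eq']
  rfl

theorem map_maximalIdeal_eq (x : X) :
    (maximalIdeal ((Spec (CommRingCat.of A)).presheaf.stalk (f.base x))).map (f.stalkMap x).hom =
      (show PrimeSpectrum A from f.base x).asIdeal.map (baseToStalk f x) := by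
  haveI : IsLocalRing ((AlgebraicGeometry.Spec.structureSheaf A).presheaf.stalk (show PrimeSpectrum A from f.base x)) :=
    inferInstanceAs (IsLocalRing ((Spec (CommRingCat.of A)).presheaf.stalk (f.base x)))
  have h := IsLocalization.AtPrime.map_eq_maximalIdeal (show PrimeSpectrum A from f.base x).asIdeal
    ((AlgebraicGeometry.Spec.structureSheaf A).presheaf.stalk (show PrimeSpectrum A from f.base x))
  rw [baseToStalk, ← Ideal.map_map]
  exact congrArg (Ideal.map (f.stalkMap x).hom) h.symm

/-- Stalks of the restriction to a fibre. -/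
theorem exists_fibre_stalk (F : X.Modules) (s : ↥(Spec (CommRingCat.of A))) (u : ↥(f.fiber s)) {x : X}
    (hx : (f.fiberι s).base u = x) :
    letI q : Submodule (X.presheaf.stalk x) (F.presheaf.stalk x) :=
      (show PrimeSpectrum A from s).asIdeal.map (baseToStalk f x) • ⊤
    Module.length ((f.fiber s).presheaf.stalk u)
        (((Scheme.Modules.pullback (f.fiberι s)).obj F).presheaf.stalk u) =
      Module.length (X.presheaf.stalk x) ((F.presheaf.stalk x) ⧸ q) ∧
    (IsNoetherianRing (X.presheaf.stalk x) → IsAssociatedPrime (maximalIdeal (X.presheaf.stalk x)) ((F.presheaf.stalk x) ⧸ q) →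
      u ∈ AssSch.Ass ((Scheme.Modules.pullback (f.fiberι s)).obj F)) ∧
    (Subsingleton ((F.presheaf.stalk x) ⧸ q) ↔
      Subsingleton (((Scheme.Modules.pullback (f.fiberι s)).obj F).presheaf.stalk u)) := by
  subst hx
  let ι := f.fiberι s
  let O := X.presheaf.stalk (ι.base u)
  let O' := (f.fiber s).presheaf.stalk u
  letI : Algebra O O' := (ι.stalkMap u).hom.toAlgebra
  obtain ⟨hs, hker⟩ := Groth.Agent.S9501.result f s u
  have hs' : Function.Surjective (algebraMap O O') := hs
  have hfs : f.base (ι.base u) = s := by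
    have : ι.base u ∈ Set.range ι.base := ⟨u, rfl⟩
    rw [f.range_fiberι] at this
    exact this
  have hq : RingHom.ker (algebraMap O O') = (show PrimeSpectrum A from s).asIdeal.map (baseToStalk f (ι.base u)) := by
    show RingHom.ker (ι.stalkMap u).hom = _
    rw [hker, map_maximalIdeal_eq]
    exact congrArg (fun t : PrimeSpectrum A ↦ t.asIdeal.map (baseToStalk f (ι.base u))) hfs
  let e₁ : O' ⊗[O] F.presheaf.stalk (ι.base u) ≃ₗ[O'] ((Scheme.Modules.pullback ι).obj F).presheaf.stalk u :=
    ((KFlatLib.stalkPullIso ι u).symm.app F).toLinearEquiv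
  let e₂ := tensorEquivQuot hs' (F.presheaf.stalk (ι.base u))
  rw [← hq]
  refine ⟨?_, fun hN h ↦ ?_, ?_⟩
  · rw [← e₁.length_eq]
    exact length_tensor_of_surjective hs' _
  · haveI : IsNoetherianRing O' := isNoetherianRing_of_surjective O O' _ hs'
    have h1 : IsAssociatedPrime (maximalIdeal O) (O' ⊗[O] F.presheaf.stalk (ι.base u)) :=
      (LinearEquiv.isAssociatedPrime_iff e₂).2 h
    exact (LinearEquiv.isAssociatedPrime_iff e₁).1 ((isAssociatedPrime_maximal_of_surjective hs' _).2 h1)
  · exact (e₂.symm.toEquiv.trans e₁.toEquiv).subsingleton_congr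

end DvrLenLib
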