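import Mathlib

/-! # Lengths of localisations against the length modulo a regular element -/

set_option autoImplicit false
universe u

open IsLocalRing

namespace DvrLenLib

variable {R : Type u} [CommRing R] [IsLocalRing R] [IsNoetherianRing R]

theorem length_add_le_of_isSMulRegular {M P : Type u} [AddCommGroup M] [Module R M] [AddCommGroup P] [Module R P]
    (g : M →ₗ[R] P) (hg : Function.Surjective g) {a : R} (ha : IsSMulRegular P a) :
    Module.length R ((LinearMap.ker g) ⧸ (Ideal.span {a} • ⊤ : Submodule R (LinearMap.ker g))) +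
        Module.length R (P ⧸ (Ideal.span {a} • ⊤ : Submodule R P)) ≤
      Module.length R (M ⧸ (Ideal.span {a} • ⊤ : Submodule R M)) := by
  let i := (Ideal.span {a} • ⊤ : Submodule R (LinearMap.ker g)).mapQ (Ideal.span {a} • ⊤ : Submodule R M)
    (LinearMap.ker g).subtype (Submodule.map_le_iff_le_comap.1 (by
      rw [Submodule.map_smul'']; exact Submodule.smul_mono le_rfl le_top))
  let p := (Ideal.span {a} • ⊤ : Submodule R M).mapQ (Ideal.span {a} • ⊤ : Submodule R P) g
    (Submodule.map_le_iff_le_comap.1 (by rw [Submodule.map_smul'']; exact Submodule.smul_mono le_rfl le_top))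
  have hi : Function.Injective i := by
    refine (injective_iff_map_eq_zero _).2 fun z hz ↦ ?_
    obtain ⟨n, rfl⟩ := Submodule.Quotient.mk_surjective _ z
    obtain ⟨m, -, hm⟩ :=       (show ∃ m ∈ (⊤ : Submodule R M), a • m = (n : M) from by
        have h : (n : M) ∈ (Ideal.span {a} • ⊤ : Submodule R M) := (Submodule.Quotient.mk_eq_zero _).1 hz
        rwa [Submodule.ideal_span_singleton_smul, Submodule.mem_smul_pointwise_iff_exists] at h)
    have hgm : g m = 0 := ha (by
      show a • g m = a • 0
      rw [← map_smul, hm, smul_zero, LinearMap.mem_ker.1 n.2])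
    rw [Submodule.Quotient.mk_eq_zero, Submodule.ideal_span_singleton_smul, Submodule.mem_smul_pointwise_iff_exists]
    exact ⟨⟨m, hgm⟩, trivial, Subtype.ext hm⟩
  have hp : Function.Surjective p := fun z ↦ by
    obtain ⟨y, rfl⟩ := Submodule.Quotient.mk_surjective _ z
    obtain ⟨m, rfl⟩ := hg y
    exact ⟨Submodule.Quotient.mk m, rfl⟩
  have hcomp : p.comp i = 0 := Submodule.linearMap_qext _ (LinearMap.ext fun n ↦ by
    show Submodule.Quotient.mk (g n) = 0
    rw [LinearMap.mem_ker.1 n.2]; rfl)
  calc _ ≤ Module.length R (LinearMap.ker p) + Module.length R (P ⧸ (Ideal.span {a} • ⊤ : Submodule R P)) :=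
        add_le_add (Module.length_le_of_injective
          (i.codRestrict (LinearMap.ker p) fun z ↦ LinearMap.mem_ker.2 (LinearMap.congr_fun hcomp z))
          fun x y h ↦ hi (congrArg Subtype.val h)) le_rfl
    _ = _ := (Module.length_eq_add_of_exact (LinearMap.ker p).subtype p (Submodule.subtype_injective _) hp
        (LinearMap.exact_subtype_ker_map p)).symm

/-- The key count. -/
theorem natCast_le_length_quotient {a : R} (ha : a ∈ maximalIdeal R) (s : Finset (PrimeSpectrum R))
    (hs : ∀ p ∈ s, a ∉ p.asIdeal) (hinc : ∀ p ∈ s, ∀ q ∈ s, p ≤ q → p = q) :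
    ∀ (n : ℕ) (M : Type u) [AddCommGroup M] [Module R M] [Module.Finite R M], IsSMulRegular M a →
      (n : ℕ∞) ≤ ∑ p ∈ s, Module.length (Localization.AtPrime p.asIdeal) (LocalizedModule p.asIdeal.primeCompl M) →
      (n : ℕ∞) ≤ Module.length R (M ⧸ (Ideal.span {a} • ⊤ : Submodule R M))
  | 0, _, _, _, _, _, _ => by simp
  | n + 1, M, _, _, _, hreg, hn => by
    classical
    obtain ⟨p, hps, hp⟩ : ∃ p ∈ s,
        Module.length (Localization.AtPrime p.asIdeal) (LocalizedModule p.asIdeal.primeCompl M) ≠ 0 := by
      by_contra h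
      push Not at h
      rw [Finset.sum_eq_zero h] at hn
      simp at hn
    let L := Localization.AtPrime p.asIdeal
    let MP := LocalizedModule p.asIdeal.primeCompl M
    haveI : Nontrivial MP := not_subsingleton_iff_nontrivial.1 fun h ↦ hp (Module.length_eq_zero_iff.2 h)
    haveI : Module.Finite L MP := Module.Finite.of_isLocalizedModule p.asIdeal.primeCompl
      (LocalizedModule.mkLinearMap p.asIdeal.primeCompl M)
    have hne : (maximalIdeal L • ⊤ : Submodule L MP) ≠ ⊤ :=
      (Submodule.top_ne_ideal_smul_of_le_jacobson_annihilator (maximalIdeal_le_jacobson _)).symm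
    let V := MP ⧸ (maximalIdeal L • ⊤ : Submodule L MP)
    haveI : Nontrivial V := Submodule.Quotient.nontrivial_iff.2 hne
    letI : Field (L ⧸ maximalIdeal L) := Ideal.Quotient.field _
    obtain ⟨v, hv⟩ := exists_ne (0 : V)
    obtain ⟨φ, hφ⟩ := Module.Projective.exists_dual_ne_zero ((L ⧸ maximalIdeal L)) hv
    let ψP : MP →ₗ[L] (L ⧸ maximalIdeal L) :=
      (φ.restrictScalars L).comp (Submodule.mkQ (maximalIdeal L • ⊤ : Submodule L MP))
    let ψ : M →ₗ[R] (L ⧸ maximalIdeal L) :=
      (ψP.restrictScalars R).comp (LocalizedModule.mkLinearMap p.asIdeal.primeCompl M)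
    have hψP : ∀ (m : M) (t : p.asIdeal.primeCompl), ψP (LocalizedModule.mk m t) = 0 → ψ m = 0 := fun m t h ↦ by
      show ψP (LocalizedModule.mk m 1) = 0
      rw [show (LocalizedModule.mk m 1 : MP) = algebraMap R L t • LocalizedModule.mk m t from by
        rw [algebraMap_smul, LocalizedModule.smul'_mk]
        exact (LocalizedModule.mk_cancel t m).symm, map_smul, h, smul_zero]
    have hψne : LinearMap.range ψ ≠ ⊥ := by
      intro hbot
      obtain ⟨z, rfl⟩ := Submodule.Quotient.mk_surjective _ v
      induction z using LocalizedModule.induction_on with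
      | h m t =>
        refine hφ ?_
        show ψP (LocalizedModule.mk m t) = 0
        have h0 : ψ m = 0 := (Submodule.eq_bot_iff _).1 hbot _ ⟨m, rfl⟩
        have e : ψP (algebraMap R L t • LocalizedModule.mk m t) = 0 := by
          rw [algebraMap_smul, LocalizedModule.smul'_mk, show (t : R) • m = (t : R) • m from rfl]
          rw [show LocalizedModule.mk ((t : R) • m) t = LocalizedModule.mk m 1 from LocalizedModule.mk_cancel t m]
          exact h0
        rw [map_smul, IsUnit.smul_eq_zero (IsLocalization.map_units L t)] at e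
        exact e
    let N := LinearMap.ker ψ.rangeRestrict
    have hregN : IsSMulRegular N a := hreg.submodule N
    have hunit : IsUnit (algebraMap R L a) := IsLocalization.map_units L (⟨a, hs p hps⟩ : p.asIdeal.primeCompl)
    have hreg'' : IsSMulRegular (LinearMap.range ψ) a := fun x y h ↦ by
      have h' : a • (x : (L ⧸ maximalIdeal L)) = a • (y : (L ⧸ maximalIdeal L)) := congrArg Subtype.val h
      rw [← algebraMap_smul L a, ← algebraMap_smul L a] at h'
      exact Subtype.ext (hunit.smul_left_cancel.1 h')
    have hsum : ∑ q ∈ s, Module.length (Localization.AtPrime q.asIdeal) (LocalizedModule q.asIdeal.primeCompl M) ≤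
        ∑ q ∈ s, Module.length (Localization.AtPrime q.asIdeal) (LocalizedModule q.asIdeal.primeCompl N) + 1 := by
      have hle : ∀ q ∈ s, Module.length (Localization.AtPrime q.asIdeal) (LocalizedModule q.asIdeal.primeCompl M) ≤
          Module.length (Localization.AtPrime q.asIdeal) (LocalizedModule q.asIdeal.primeCompl N) +
            (if q = p then 1 else 0) := by
        intro q hq
        let j := LocalizedModule.map q.asIdeal.primeCompl N.subtype
        have hj : Function.Injective j :=
          LocalizedModule.map_injective q.asIdeal.primeCompl N.subtype (Submodule.subtype_injective _)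
        split_ifs with hqp
        · subst hqp
          have hker : LinearMap.ker ψP ≤ LinearMap.range j := fun z hz ↦ by
            induction z using LocalizedModule.induction_on with
            | h m t =>
              refine ⟨LocalizedModule.mk ⟨m, ?_⟩ t, by simp [j, LocalizedModule.map_mk]⟩
              exact LinearMap.mem_ker.2 (Subtype.ext (hψP m t (LinearMap.mem_ker.1 hz)))
          calc _ = Module.length L (LinearMap.ker ψP) + Module.length L (LinearMap.range ψP) :=
                Module.length_eq_add_of_exact (LinearMap.ker ψP).subtype ψP.rangeRestrict (Submodule.subtype_injective _)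
                  ψP.surjective_rangeRestrict (fun z ↦ by
                    simp [LinearMap.rangeRestrict, LinearMap.codRestrict, Subtype.ext_iff])
            _ ≤ _ := by
              refine add_le_add ?_ ?_
              · refine le_trans (Module.length_le_of_injective (Submodule.inclusion hker)
                  (Submodule.inclusion_injective hker)) (le_of_eq ?_)
                exact (LinearEquiv.ofInjective j hj).length_eq.symm
              · refine le_trans (Module.length_le_of_injective (LinearMap.range ψP).subtype
                  (Submodule.subtype_injective _)) (le_of_eq ?_)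
                rw [Module.length_eq_of_surjective (R := (L ⧸ maximalIdeal L)) (S := L) Ideal.Quotient.mk_surjective]
                exact Module.length_eq_one _ _
        · rw [add_zero]
          refine Module.length_le_of_surjective j fun z ↦ ?_
          induction z using LocalizedModule.induction_on with
          | h m t =>
            obtain ⟨c, hcp, hcq⟩ := Set.not_subset.1 fun h : (p.asIdeal : Set R) ⊆ q.asIdeal ↦
              hqp (hinc p hps q hq h).symm
            have hcm : c • m ∈ N := by
              refine LinearMap.mem_ker.2 (Subtype.ext ?_)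
              show ψ (c • m) = 0
              rw [map_smul, ← algebraMap_smul L c,
                ← algebraMap_smul ((L ⧸ maximalIdeal L)) (algebraMap R L c),
                show algebraMap L ((L ⧸ maximalIdeal L)) (algebraMap R L c) = 0 from
                  Ideal.Quotient.eq_zero_iff_mem.2 ((IsLocalization.AtPrime.to_map_mem_maximal_iff L p.asIdeal c).2 hcp),
                zero_smul]
            refine ⟨LocalizedModule.mk ⟨c • m, hcm⟩ (⟨c, hcq⟩ * t), ?_⟩
            rw [show j = LocalizedModule.map q.asIdeal.primeCompl N.subtype from rfl, LocalizedModule.map_mk]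
            exact LocalizedModule.mk_cancel_common_left ⟨c, hcq⟩ t m
      refine (Finset.sum_le_sum hle).trans ?_
      rw [Finset.sum_add_distrib, Finset.sum_ite_eq' s p fun _ ↦ (1 : ℕ∞), if_pos hps]
    have hN : (n : ℕ∞) ≤ ∑ q ∈ s, Module.length (Localization.AtPrime q.asIdeal)
        (LocalizedModule q.asIdeal.primeCompl N) := by
      have := hn.trans hsum
      rw [Nat.cast_succ] at this
      exact WithTop.le_of_add_le_add_right (by decide) this
    have h1 : (1 : ℕ∞) ≤ Module.length R ((LinearMap.range ψ) ⧸ (Ideal.span {a} • ⊤ : Submodule R (LinearMap.range ψ))) := by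
      haveI : Nontrivial (LinearMap.range ψ) := Submodule.nontrivial_iff_ne_bot.2 hψne
      haveI : Module.Finite R (LinearMap.range ψ) := Module.Finite.range ψ
      haveI : Nontrivial ((LinearMap.range ψ) ⧸ (Ideal.span {a} • ⊤ : Submodule R (LinearMap.range ψ))) :=
        Submodule.Quotient.nontrivial_iff.2 (Submodule.top_ne_ideal_smul_of_le_jacobson_annihilator
          (le_trans ((Ideal.span_singleton_le_iff_mem _).2 ha) (maximalIdeal_le_jacobson _))).symm
      exact Order.one_le_iff_pos.2 Module.length_pos
    rw [Nat.cast_succ]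
    refine le_trans (add_le_add (natCast_le_length_quotient ha s hs hinc n N hregN hN) h1) ?_
    exact length_add_le_of_isSMulRegular ψ.rangeRestrict ψ.surjective_rangeRestrict hreg''

theorem sum_length_le {a : R} (ha : a ∈ maximalIdeal R) (s : Finset (PrimeSpectrum R))
    (hs : ∀ p ∈ s, a ∉ p.asIdeal) (hinc : ∀ p ∈ s, ∀ q ∈ s, p ≤ q → p = q)
    (M : Type u) [AddCommGroup M] [Module R M] [Module.Finite R M] (hreg : IsSMulRegular M a) :
    ∑ p ∈ s, Module.length (Localization.AtPrime p.asIdeal) (LocalizedModule p.asIdeal.primeCompl M) ≤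
      Module.length R (M ⧸ (Ideal.span {a} • ⊤ : Submodule R M)) :=
  ENat.forall_natCast_le_iff_le.1 fun n hn ↦ natCast_le_length_quotient ha s hs hinc n M hreg hn

/-- A minimal prime over an associated prime and a regular element is associated modulo that element. -/
theorem maximalIdeal_isAssociatedPrime_quotient {M : Type u} [AddCommGroup M] [Module R M] [Module.Finite R M]
    {a : R} (ha : a ∈ maximalIdeal R) (hreg : IsSMulRegular M a) {P : Ideal R} (hP : IsAssociatedPrime P M)
    (hmax : ∀ Q : Ideal R, Q.IsPrime → P ≤ Q → a ∈ Q → Q = maximalIdeal R) :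
    IsAssociatedPrime (maximalIdeal R) (M ⧸ (Ideal.span {a} • ⊤ : Submodule R M)) := by
  obtain ⟨hPp, x, hx⟩ := isAssociatedPrime_iff.1 hP
  have hxP : ∀ r : R, r ∈ P ↔ r • x = 0 := fun r ↦ by rw [hx, Submodule.mem_colon_singleton, Submodule.mem_bot]
  have hx0 : x ≠ 0 := fun h ↦ hPp.ne_top ((Ideal.eq_top_iff_one _).2 ((hxP 1).2 (by rw [h, smul_zero])))
  obtain ⟨k, hk⟩ : ∃ k : ℕ, x ∉ ((Ideal.span {a}) ^ k • ⊤ : Submodule R M) := by
    by_contra h
    push Not at h
    refine hx0 ((Submodule.mem_bot R).1 ?_)
    rw [← Ideal.iInf_pow_smul_eq_bot_of_le_jacobson (M := M) (Ideal.span {a})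
      (le_trans ((Ideal.span_singleton_le_iff_mem _).2 ha) (maximalIdeal_le_jacobson _))]
    exact (Submodule.mem_iInf _).2 h
  obtain ⟨j, y, hjy, hy⟩ : ∃ (j : ℕ) (y : M), x = a ^ j • y ∧ y ∉ (Ideal.span {a} • ⊤ : Submodule R M) := by
    induction k generalizing x with
    | zero => exact absurd (by simp) hk
    | succ k ih =>
      by_cases h : x ∈ (Ideal.span {a} • ⊤ : Submodule R M)
      · rw [Submodule.ideal_span_singleton_smul, Submodule.mem_smul_pointwise_iff_exists] at h
        obtain ⟨x', -, rfl⟩ := h
        have hk' : x' ∉ ((Ideal.span {a}) ^ k • ⊤ : Submodule R M) := fun h' ↦ hk (by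
          rw [pow_succ', Submodule.mul_smul]
          exact Submodule.smul_mem_smul (Ideal.mem_span_singleton_self a) h')
        have hx' : ∀ r : R, r ∈ P ↔ r • x' = 0 := fun r ↦ (hxP r).trans ⟨fun h0 ↦ hreg (by
          show a • r • x' = a • 0
          rw [smul_zero, smul_comm]; exact h0), fun h0 ↦ by rw [smul_comm, h0, smul_zero]⟩
        obtain ⟨j, y, hjy, hy⟩ := ih x' (Ideal.ext fun r ↦ by
          rw [hx' r, Submodule.mem_colon_singleton, Submodule.mem_bot]) hx'
          (fun h0 ↦ hx0 (by rw [h0, smul_zero])) hk'
        exact ⟨j + 1, y, by rw [hjy, ← mul_smul, ← pow_succ'], hy⟩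
      · exact ⟨0, x, by rw [pow_zero, one_smul], h⟩
  let z : M ⧸ (Ideal.span {a} • ⊤ : Submodule R M) := Submodule.Quotient.mk y
  have hz : z ≠ 0 := fun h ↦ hy ((Submodule.Quotient.mk_eq_zero _).1 h)
  obtain ⟨Q, hQ, hQle⟩ := exists_le_isAssociatedPrime_of_isNoetherianRing R z hz
  have hQp := (isAssociatedPrime_iff.1 hQ).1
  have hPQ : P ≤ Q := fun r hr ↦ hQle (by
    rw [Submodule.mem_colon_singleton, Submodule.mem_bot]
    have h0 : r • y = 0 := (hreg.pow j) (by
      show a ^ j • r • y = a ^ j • 0
      rw [smul_zero, smul_comm, ← hjy]; exact (hxP r).1 hr)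
    show Submodule.Quotient.mk (r • y) = 0
    rw [h0]; rfl)
  have haQ : a ∈ Q := hQle (by
    rw [Submodule.mem_colon_singleton, Submodule.mem_bot]
    show Submodule.Quotient.mk (a • y) = 0
    rw [Submodule.Quotient.mk_eq_zero]
    exact Submodule.smul_mem_smul (Ideal.mem_span_singleton_self a) trivial)
  exact hmax Q hQp hPQ haQ ▸ hQ

end DvrLenLib
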