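import Groth.Agent.DvrLenLib.Local
import Groth.Agent.DvrLenLib.Stalks
import Groth.Agent.ConsLib.ModLoci
import Mathlib

/-! # Lengths at the maximal points of the two fibres over a discrete valuation ring -/

set_option autoImplicit false
universe u

open CategoryTheory AlgebraicGeometry TopologicalSpace Topology IsLocalRing

namespace DvrLenLib

variable {A : Type u} [CommRing A] [IsDomain A] [IsDiscreteValuationRing A] {X : Scheme.{u}}
  (f : X ⟶ Spec (CommRingCat.of A)) (F : X.Modules)

/-- maximal points of the support of the restriction to a fibre -/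
def fibreMax (s : ↥(Spec (CommRingCat.of A))) : Set ↥(f.fiber s) :=
  {v | Nontrivial (((Scheme.Modules.pullback (f.fiberι s)).obj F).presheaf.stalk v) ∧
    ∀ w : ↥(f.fiber s), Nontrivial (((Scheme.Modules.pullback (f.fiberι s)).obj F).presheaf.stalk w) →
      v ∈ closure {w} → w = v}

theorem finite_of_max {T : Type u} [TopologicalSpace T] [NoetherianSpace T] [QuasiSober T] [T0Space T] (S : Set T)
    (hS : IsClosed S) : {v : T | v ∈ S ∧ ∀ w ∈ S, w ⤳ v → w = v}.Finite := by
  haveI : NoetherianSpace S := NoetherianSpace.set S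
  haveI := hS.isClosedEmbedding_subtypeVal.quasiSober
  let φ : {v : T | v ∈ S ∧ ∀ w ∈ S, w ⤳ v → w = v} → irreducibleComponents S :=
    fun v ↦ ⟨irreducibleComponent ⟨v.1, v.2.1⟩, irreducibleComponent_mem_irreducibleComponents _⟩
  have hφ : Function.Injective φ := by
    intro v₁ v₂ h
    have hC : irreducibleComponent (⟨v₁.1, v₁.2.1⟩ : S) = irreducibleComponent ⟨v₂.1, v₂.2.1⟩ := congrArg Subtype.val h
    obtain ⟨g, hg⟩ := QuasiSober.sober (isIrreducible_irreducibleComponent (x := (⟨v₁.1, v₁.2.1⟩ : S)))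
      isClosed_irreducibleComponent
    have e : ∀ v : {v : T | v ∈ S ∧ ∀ w ∈ S, w ⤳ v → w = v},
        (⟨v.1, v.2.1⟩ : S) ∈ irreducibleComponent (⟨v₁.1, v₁.2.1⟩ : S) → (g : T) = v.1 := fun v hv ↦
      v.2.2 _ g.2 ((hg.specializes hv).map continuous_subtype_val)
    exact Subtype.ext ((e v₁ mem_irreducibleComponent).symm.trans (e v₂ (hC ▸ mem_irreducibleComponent)))
  haveI : Finite (irreducibleComponents S) := NoetherianSpace.finite_irreducibleComponents.to_subtype
  exact Set.finite_coe_iff.1 (Finite.of_injective φ hφ)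

theorem finite_fibreMax [IsLocallyNoetherian X] [QuasiCompact f] [LocallyOfFiniteType f] [Coh.IsQCoh F]
    (hF : CohB1.IsFT F) (s : ↥(Spec (CommRingCat.of A))) : (fibreMax f F s).Finite := by
  haveI := UOpenLib.lft_fiberToSpec f s
  haveI : IsLocallyNoetherian (f.fiber s) := LocallyOfFiniteType.isLocallyNoetherian (f.fiberToSpecResidueField s)
  haveI : QuasiCompact (f.fiberToSpecResidueField s) := MorphismProperty.pullback_snd _ _ inferInstance
  haveI : CompactSpace (f.fiber s) := QuasiCompact.compactSpace_of_compactSpace (f.fiberToSpecResidueField s)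
  haveI : IsNoetherian (f.fiber s) := {}
  refine (finite_of_max (CohB1.support ((Scheme.Modules.pullback (f.fiberι s)).obj F))
    (QCohLib.isClosed_support _ (ConsLib.isFT_pullback (f.fiberι s) F hF))).subset ?_
  exact fun v hv ↦ ⟨not_subsingleton_iff_nontrivial.2 hv.1, fun w hw hwv ↦
    hv.2 w (not_subsingleton_iff_nontrivial.1 hw) (specializes_iff_mem_closure.1 hwv)⟩

theorem finsum_length_le [IsProper f] (hF : Coh.IsCoh F) (hflat : FlatMod.IsFlatOver f F)
    (hemb : AssSch.NoEmbedded ((Scheme.Modules.pullback (f.fiberι (IsLocalRing.closedPoint A))).obj F)) :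
    ∑ᶠ z' : fibreMax f F (genericPoint (Spec (CommRingCat.of A))),
        Module.length ((f.fiber _).presheaf.stalk z'.1)
          (((Scheme.Modules.pullback (f.fiberι _)).obj F).presheaf.stalk z'.1) ≤
      ∑ᶠ z : fibreMax f F (IsLocalRing.closedPoint A),
        Module.length ((f.fiber _).presheaf.stalk z.1)
          (((Scheme.Modules.pullback (f.fiberι _)).obj F).presheaf.stalk z.1) := by
  classical
  haveI : IsLocallyNoetherian X := LocallyOfFiniteType.isLocallyNoetherian f
  haveI : Coh.IsQCoh F := hF.1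
  let y : ↥(Spec (CommRingCat.of A)) := IsLocalRing.closedPoint A
  let y' : ↥(Spec (CommRingCat.of A)) := genericPoint (Spec (CommRingCat.of A))
  obtain ⟨ϖ, hϖ⟩ := IsDiscreteValuationRing.exists_irreducible A
  have hy : (show PrimeSpectrum A from y).asIdeal = Ideal.span {ϖ} := hϖ.maximalIdeal_eq
  have hy' : (show PrimeSpectrum A from y').asIdeal = ⊥ := by
    show (genericPoint (Spec (CommRingCat.of A)) : PrimeSpectrum A).asIdeal = ⊥
    rw [genericPoint_eq_bot_of_affine]
    rfl
  let σ := baseToStalk f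
  have hmemy : ∀ (w : X) (Q : PrimeSpectrum (X.presheaf.stalk w)),
      σ w ϖ ∈ Q.asIdeal → f.base (EquidimLib.stalkPt w Q) = y := by
    intro w Q hQ
    rw [base_stalkPt]
    refine PrimeSpectrum.ext (((IsLocalRing.maximalIdeal.isMaximal A).eq_of_le
      (PrimeSpectrum.comap (σ w) Q).isPrime.ne_top ?_).symm)
    rw [hϖ.maximalIdeal_eq, Ideal.span_singleton_le_iff_mem]
    exact hQ
  have hnotmem : ∀ (w : X) (Q : PrimeSpectrum (X.presheaf.stalk w)),
      f.base (EquidimLib.stalkPt w Q) = y' → σ w ϖ ∉ Q.asIdeal := by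
    intro w Q hQ hc
    have e : (show PrimeSpectrum A from y').asIdeal = Q.asIdeal.comap (σ w) := by
      rw [← hQ, base_stalkPt]; rfl
    rw [hy'] at e
    exact hϖ.ne_zero ((Submodule.mem_bot A).1 (e ▸ (hc : ϖ ∈ Q.asIdeal.comap (σ w))))
  have hmax_mem : ∀ w : X, f.base w = y → σ w ϖ ∈ maximalIdeal (X.presheaf.stalk w) := by
    intro w hw
    have e : f.base w = PrimeSpectrum.comap (σ w) (closedPoint _) := by
      rw [← base_stalkPt]; exact congrArg f.base Scheme.fromSpecStalk_closedPoint.symm
    have h : ϖ ∈ (show PrimeSpectrum A from f.base w).asIdeal := by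
      rw [hw, hy]; exact Ideal.mem_span_singleton_self ϖ
    rw [e] at h
    exact h
  have hreg : ∀ w : X, IsSMulRegular (F.presheaf.stalk w) (σ w ϖ) := by
    intro w
    letI := FlatMod.moduleStalkOver f F w
    haveI : Module.Flat ((Spec (CommRingCat.of A)).presheaf.stalk (f.base w)) (F.presheaf.stalk w) := hflat w
    let T := (AlgebraicGeometry.Spec.structureSheaf A).presheaf.stalk (show PrimeSpectrum A from f.base w)
    haveI hloc : IsLocalization.AtPrime T (show PrimeSpectrum A from f.base w).asIdeal :=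
      StructureSheaf.IsLocalization.to_stalk A _
    haveI : IsDomain T := IsLocalization.isDomain_of_le_nonZeroDivisors _
      (show PrimeSpectrum A from f.base w).asIdeal.primeCompl_le_nonZeroDivisors
    have hne : algebraMap A T ϖ ≠ 0 := fun h ↦ hϖ.ne_zero
      ((IsLocalization.to_map_eq_zero_iff T (show PrimeSpectrum A from f.base w).asIdeal.primeCompl_le_nonZeroDivisors).1 h)
    have h : IsSMulRegular T (algebraMap A T ϖ) := fun a b hab ↦ mul_left_cancel₀ hne hab
    letI : Module T (F.presheaf.stalk w) := FlatMod.moduleStalkOver f F w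
    haveI : Module.Flat T (F.presheaf.stalk w) := hflat w
    intro a b hab
    exact (Module.Flat.isSMulRegular_of_nonZeroDivisors (mem_nonZeroDivisors_of_ne_zero hne) :
      IsSMulRegular (F.presheaf.stalk w) (algebraMap A T ϖ)) hab
  have hquot0 : ∀ z : ↥(f.fiber y'), Module.length ((f.fiber y').presheaf.stalk z)
      (((Scheme.Modules.pullback (f.fiberι y')).obj F).presheaf.stalk z) =
      Module.length (X.presheaf.stalk ((f.fiberι y').base z)) (F.presheaf.stalk ((f.fiberι y').base z)) := by
    intro z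
    rw [(exists_fibre_stalk f F y' z rfl).1, hy', Ideal.map_bot, Submodule.bot_smul]
    exact (Submodule.quotEquivOfEqBot _ rfl).length_eq
  have hq : ∀ w : X, (show PrimeSpectrum A from y).asIdeal.map (σ w) = Ideal.span {σ w ϖ} := fun w ↦ by
    rw [hy, Ideal.map_span, Set.image_singleton]
  -- maximal points of the generic fibre are maximal in the support
  have hy'gen : ∀ v : X, ∀ v' : X, v ⤳ v' → f.base v' = y' → f.base v = y' := fun v v' h hv' ↦
    ((hv' ▸ h.map f.continuous : f.base v ⤳ y').antisymm (genericPoint_specializes _)).eq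
  have hsupp' : ∀ z : fibreMax f F y', (f.fiberι y').base z.1 ∈ CohB1.support F ∧
      ∀ v ∈ CohB1.support F, v ⤳ (f.fiberι y').base z.1 → v = (f.fiberι y').base z.1 := by
    intro z
    have hb : ∀ u : ↥(f.fiber y'), (f.fiberι y').base u ∈ CohB1.support F ↔
        Nontrivial (((Scheme.Modules.pullback (f.fiberι y')).obj F).presheaf.stalk u) := fun u ↦ by
      rw [← not_subsingleton_iff_nontrivial, ← (exists_fibre_stalk f F y' u rfl).2.2, hy', Ideal.map_bot,
        Submodule.bot_smul]
      exact not_congr (Submodule.quotEquivOfEqBot _ rfl).toEquiv.subsingleton_congr.symm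
    refine ⟨(hb z.1).2 z.2.1, fun v hv hvz ↦ ?_⟩
    obtain ⟨u, rfl⟩ : v ∈ Set.range (f.fiberι y').base := by
      rw [f.range_fiberι]
      exact hy'gen v _ hvz (by
        have : (f.fiberι y').base z.1 ∈ Set.range (f.fiberι y').base := ⟨_, rfl⟩
        rw [f.range_fiberι] at this
        exact this)
    exact congrArg _ (z.2.2 u ((hb u).1 hv)
      (specializes_iff_mem_closure.1 ((f.fiberι y').isEmbedding.isInducing.specializes_iff.1 hvz)))
  -- a maximal point of the special fibre below each of them
  have hchoose : ∀ z : fibreMax f F y', ∃ t : fibreMax f F y, (f.fiberι y').base z.1 ⤳ (f.fiberι y).base t.1 := by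
    intro z
    let x' := (f.fiberι y').base z.1
    obtain ⟨hx', hx'max⟩ := hsupp' z
    obtain ⟨c, hc, hcy⟩ : ∃ c, x' ⤳ c ∧ f.base c = y := by
      have hcl : IsClosed (f.base '' closure {x'}) := f.isClosedMap _ isClosed_closure
      have h1 : f.base x' ⤳ y := IsLocalRing.specializes_closedPoint _
      obtain ⟨c, hc, hcy⟩ := h1.mem_closed hcl ⟨x', subset_closure rfl, rfl⟩
      exact ⟨c, specializes_iff_mem_closure.2 hc, hcy⟩
    let T : Set (PrimeSpectrum (X.presheaf.stalk c)) :=
      {p | f.base (EquidimLib.stalkPt c p) = y ∧ x' ⤳ EquidimLib.stalkPt c p}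
    obtain ⟨p₀, hp₀⟩ := EquidimLib.exists_stalkPt (specializes_rfl : c ⤳ c)
    obtain ⟨p, hp1, hp2⟩ := exists_minimalFor_of_wellFoundedLT (· ∈ T) (fun p ↦ p.asIdeal.height)
      ⟨p₀, by rw [hp₀]; exact hcy, hp₀.symm ▸ hc⟩
    let w := EquidimLib.stalkPt c p
    have hwmin : ∀ v, f.base v = y → x' ⤳ v → v ⤳ w → v = w := fun v hv h1 h2 ↦ by
      obtain ⟨p', rfl⟩ := EquidimLib.exists_stalkPt (h2.trans (EquidimLib.stalkPt_specializes c p))
      have hle : p' ≤ p := EquidimLib.le_of_stalkPt h2
      rcases hle.eq_or_lt with rfl | hlt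
      · rfl
      · exact absurd ((hp2 (show p' ∈ T from ⟨hv, h1⟩) (Ideal.height_mono hle)).trans_lt
          (Ideal.height_strict_mono_of_isPrime hlt)) (not_lt.2 le_rfl)
    obtain ⟨u, hu⟩ : w ∈ Set.range (f.fiberι y).base := by rw [f.range_fiberι]; exact hp1.1
    obtain ⟨P, hP⟩ := EquidimLib.exists_stalkPt (show x' ⤳ w from hp1.2)
    haveI hfinM : Module.Finite (X.presheaf.stalk w) (F.presheaf.stalk w) := (JacDimLib.supportDim_stalk F hF.2 w).1
    have hPass : IsAssociatedPrime P.asIdeal (F.presheaf.stalk w) := by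
      refine Module.associatedPrimes.minimalPrimes_annihilator_subset_associatedPrimes _ _ ⟨⟨P.isPrime, ?_⟩, fun q hq hle ↦ ?_⟩
      · have : P ∈ Module.support (X.presheaf.stalk w) (F.presheaf.stalk w) :=
          (mem_support_stalk_iff F hF.2 w P).2 (hP ▸ hx')
        rwa [Module.support_eq_zeroLocus, PrimeSpectrum.mem_zeroLocus, SetLike.coe_subset_coe] at this
      · have hqs : (⟨q, hq.1⟩ : PrimeSpectrum (X.presheaf.stalk w)) ∈ Module.support (X.presheaf.stalk w) (F.presheaf.stalk w) := by
          rw [Module.support_eq_zeroLocus, PrimeSpectrum.mem_zeroLocus, SetLike.coe_subset_coe]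
          exact hq.2
        have e := hx'max _ ((mem_support_stalk_iff F hF.2 w _).1 hqs)
          ((EquidimLib.specializes_stalkPt (show (⟨q, hq.1⟩ : PrimeSpectrum _) ≤ P from hle)).trans (specializes_of_eq hP))
        exact (congrArg PrimeSpectrum.asIdeal (EquidimLib.stalkPt_injective w (e.trans hP.symm))).ge
    have hAss : u ∈ AssSch.Ass ((Scheme.Modules.pullback (f.fiberι y)).obj F) := by
      refine (exists_fibre_stalk f F y u hu).2.1 inferInstance ?_
      rw [hq]
      refine maximalIdeal_isAssociatedPrime_quotient (hmax_mem w hp1.1) (hreg w) hPass fun Q hQ hPQ hϖQ ↦ ?_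
      let Q' : PrimeSpectrum (X.presheaf.stalk w) := ⟨Q, hQ⟩
      have e := hwmin _ (hmemy w Q' hϖQ) (hP ▸ EquidimLib.specializes_stalkPt (show P ≤ Q' from hPQ))
        (EquidimLib.stalkPt_specializes w Q')
      exact congrArg PrimeSpectrum.asIdeal
        (EquidimLib.stalkPt_injective w (e.trans Scheme.fromSpecStalk_closedPoint.symm) : Q' = closedPoint _)
    haveI := UOpenLib.lft_fiberToSpec f y
    haveI : IsLocallyNoetherian (f.fiber y) := LocallyOfFiniteType.isLocallyNoetherian (f.fiberToSpecResidueField y)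
    refine ⟨⟨u, ?_, fun v hv huv ↦ ?_⟩, by rw [hu]; exact hp1.2⟩
    · by_contra hn
      rw [not_nontrivial_iff_subsingleton] at hn
      obtain ⟨-, e, he⟩ := isAssociatedPrime_iff.1 (hAss : IsAssociatedPrime (maximalIdeal _) _) |>.imp_right id
      have : (1 : (f.fiber y).presheaf.stalk u) ∈ maximalIdeal ((f.fiber y).presheaf.stalk u) := by
        rw [he, Submodule.mem_colon_singleton]
        exact Subsingleton.elim _ _
      exact (maximalIdeal.isMaximal _).ne_top ((Ideal.eq_top_iff_one _).2 this)
    · let G := (Scheme.Modules.pullback (f.fiberι y)).obj F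
      haveI : Coh.IsQCoh G := KFlatLib.isQCoh_pullback (f.fiberι y) F
      have hG : CohB1.IsFT G := ConsLib.isFT_pullback (f.fiberι y) F hF.2
      have hGc : IsClosed (CohB1.support G) := QCohLib.isClosed_support G hG
      haveI := hGc.isClosedEmbedding_subtypeVal.quasiSober
      obtain ⟨g, hg⟩ := QuasiSober.sober
        (isIrreducible_irreducibleComponent (x := (⟨v, not_subsingleton_iff_nontrivial.2 hv⟩ : CohB1.support G)))
        isClosed_irreducibleComponent
      have hgv : (g : ↥(f.fiber y)) ⤳ v := (hg.specializes mem_irreducibleComponent).map continuous_subtype_val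
      have hgAss : (g : ↥(f.fiber y)) ∈ AssSch.Ass G := by
        refine mem_ass_of_max G hG g.2 fun t ht htg ↦ ?_
        have h1 : (⟨t, ht⟩ : CohB1.support G) ⤳ g := IsInducing.subtypeVal.specializes_iff.1 htg
        have h2 : closure {(⟨t, ht⟩ : CohB1.support G)} = closure {g} :=
          le_antisymm (hg.def ▸ (irreducibleComponent_mem_irreducibleComponents _).2 isIrreducible_singleton.closure
            (hg.def ▸ h1.closure_subset)) h1.closure_subset
        exact congrArg Subtype.val (inseparable_iff_closure_eq.2 h2).eq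
      have e := hemb u hAss g hgAss (hgv.trans (specializes_iff_mem_closure.2 huv))
      exact ((specializes_iff_mem_closure.2 huv).antisymm (e ▸ hgv)).eq
  choose φ hφ using hchoose
  haveI : Fintype (fibreMax f F y') := (finite_fibreMax f F hF.2 y').fintype
  haveI : Fintype (fibreMax f F y) := (finite_fibreMax f F hF.2 y).fintype
  rw [finsum_eq_sum_of_fintype, finsum_eq_sum_of_fintype]
  rw [← Finset.sum_fiberwise Finset.univ φ]
  refine Finset.sum_le_sum fun t _ ↦ ?_
  let w := (f.fiberι y).base t.1
  have hwy : f.base w = y := by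
    have : w ∈ Set.range (f.fiberι y).base := ⟨_, rfl⟩
    rw [f.range_fiberι] at this
    exact this
  haveI : Module.Finite (X.presheaf.stalk w) (F.presheaf.stalk w) := (JacDimLib.supportDim_stalk F hF.2 w).1
  let Z := Finset.univ.filter fun z ↦ φ z = t
  have hpr : ∀ z : fibreMax f F y', ∃ P : PrimeSpectrum (X.presheaf.stalk w),
      φ z = t → EquidimLib.stalkPt w P = (f.fiberι y').base z.1 := fun z ↦ by
    by_cases h : φ z = t
    · obtain ⟨P, hP⟩ := EquidimLib.exists_stalkPt (show (f.fiberι y').base z.1 ⤳ w by subst h; exact hφ z)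
      exact ⟨P, fun _ ↦ hP⟩
    · exact ⟨closedPoint _, fun h' ↦ absurd h' h⟩
  choose pr hpr using hpr
  have hfib : ∀ z : fibreMax f F y', f.base ((f.fiberι y').base z.1) = y' := fun z ↦ by
    have : (f.fiberι y').base z.1 ∈ Set.range (f.fiberι y').base := ⟨_, rfl⟩
    rw [f.range_fiberι] at this
    exact this
  rw [(exists_fibre_stalk f F y t.1 rfl).1, hq]
  refine le_trans (le_of_eq ?_) (sum_length_le (hmax_mem w hwy) (Z.image pr) (fun p hp ↦ ?_) (fun p hp q hq' hpq ↦ ?_)
    (F.presheaf.stalk w) (hreg w))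
  · rw [Finset.sum_image fun a ha b hb h ↦ ?_]
    · refine Finset.sum_congr rfl fun z hz ↦ ?_
      rw [hquot0, length_localizedModule_stalk F w (pr z) (hpr z (Finset.mem_filter.1 hz).2)]
    · exact Subtype.ext ((f.fiberι y').isEmbedding.injective (((hpr a (Finset.mem_filter.1 ha).2).symm.trans
        (congrArg (EquidimLib.stalkPt w) h)).trans (hpr b (Finset.mem_filter.1 hb).2)))
  · obtain ⟨z, hz, rfl⟩ := Finset.mem_image.1 hp
    exact hnotmem w _ (by rw [hpr z (Finset.mem_filter.1 hz).2]; exact hfib z)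
  · obtain ⟨a, ha, rfl⟩ := Finset.mem_image.1 hp
    obtain ⟨b, hb, rfl⟩ := Finset.mem_image.1 hq'
    have h := EquidimLib.specializes_stalkPt hpq
    rw [hpr a (Finset.mem_filter.1 ha).2, hpr b (Finset.mem_filter.1 hb).2] at h
    refine EquidimLib.stalkPt_injective w ?_
    rw [hpr a (Finset.mem_filter.1 ha).2, hpr b (Finset.mem_filter.1 hb).2]
    exact (hsupp' b).2 _ (hsupp' a).1 h

end DvrLenLib
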